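import Groth.Agent.H98.GrHt.Main
import Groth.Agent.H98.GrStar.Ess
import Groth.Agent.H98.Bass0.LocSoc

set_option autoImplicit false
universe u

/-!
# Dimension of the support of `M_p` as a relative height, and `dim M_p = dim M_{p*} + d`
-/

namespace Groth.Agent.H98.GrHt

open Groth.Agent.H98.GrStar Groth.Agent.H98.Bass0 Order

section Support

variable {R : Type u} [CommRing R] (p : Ideal R) [hp : p.IsPrime]
variable (M : Type u) [AddCommGroup M] [Module R M]

theorem comap_le_of_atPrime (Q' : PrimeSpectrum (Localization.AtPrime p)) :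
    Q'.asIdeal.comap (algebraMap R (Localization.AtPrime p)) ≤ p :=
  (IsLocalization.AtPrime.primeSpectrumOrderIso (Localization.AtPrime p) p Q').2

/-- the support of `M_p` over `R_p` -/
theorem mem_support_localizedModule_iff (Q' : PrimeSpectrum (Localization.AtPrime p)) :
    Q' ∈ Module.support (Localization.AtPrime p) (LocalizedModule p.primeCompl M) ↔
      PrimeSpectrum.comap (algebraMap R (Localization.AtPrime p)) Q' ∈ Module.support R M := by
  rw [Module.mem_support_iff', Module.mem_support_iff']
  constructor
  · rintro ⟨z, hz⟩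
    induction z using LocalizedModule.induction_on with
    | h m s =>
      refine ⟨m, fun r hr hrm => ?_⟩
      have hr' : algebraMap R (Localization.AtPrime p) r ∉ Q'.asIdeal := hr
      apply hz _ hr'
      rw [algebraMap_smul, LocalizedModule.smul'_mk, hrm, LocalizedModule.zero_mk]
  · rintro ⟨m, hm⟩
    refine ⟨LocalizedModule.mk m 1, fun r' hr' hzero => ?_⟩
    obtain ⟨r, s, rfl⟩ := IsLocalization.exists_mk'_eq p.primeCompl r'
    have hr : r ∉ Q'.asIdeal.comap (algebraMap R (Localization.AtPrime p)) := by
      intro hmem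
      apply hr'
      rw [IsLocalization.mk'_mem_iff]
      exact hmem
    have h1 : (IsLocalization.mk' (Localization.AtPrime p) r s) •
        (LocalizedModule.mk m 1 : LocalizedModule p.primeCompl M) = LocalizedModule.mk (r • m) s := by
      rw [← Localization.mk_eq_mk', LocalizedModule.mk_smul_mk, mul_one]
    rw [h1, mk_eq_zero_iff'] at hzero
    obtain ⟨t, ht, htm⟩ := hzero
    have htr : t * r ∉ Q'.asIdeal.comap (algebraMap R (Localization.AtPrime p)) := by
      intro hmem
      have hprime : (Q'.asIdeal.comap (algebraMap R (Localization.AtPrime p))).IsPrime :=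
        Ideal.comap_isPrime _ _
      rcases hprime.mem_or_mem hmem with h | h
      · exact ht (comap_le_of_atPrime p Q' h)
      · exact hr h
    apply hm (t * r) htr
    rw [mul_smul]
    exact htm

variable [Module.Finite R M]

/-- `dim M_p` is the height of `p` in `V(Ann M)` -/
theorem supportDim_localizedModule_eq_relHt (h : Module.annihilator R M ≤ p) :
    Module.supportDim (Localization.AtPrime p) (LocalizedModule p.primeCompl M) =
      ((relHt (Module.annihilator R M) p h : ℕ∞) : WithBot ℕ∞) := by
  unfold relHt Module.supportDim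
  rw [Order.height_eq_krullDim_Iic]
  let e := IsLocalization.AtPrime.primeSpectrumOrderIso (Localization.AtPrime p) p
  apply le_antisymm
  · let f : ↥(Module.support (Localization.AtPrime p) (LocalizedModule p.primeCompl M)) →
        ↥(Set.Iic (pt (Module.annihilator R M) p h)) := fun Q' =>
      ⟨⟨(e Q'.1).1, Module.annihilator_le_of_mem_support
        ((mem_support_localizedModule_iff p M Q'.1).mp Q'.2)⟩, (e Q'.1).2⟩
    refine Order.krullDim_le_of_strictMono f ?_
    intro a b hab
    exact e.strictMono hab
  · let g : ↥(Set.Iic (pt (Module.annihilator R M) p h)) →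
        ↥(Module.support (Localization.AtPrime p) (LocalizedModule p.primeCompl M)) := fun y =>
      ⟨e.symm ⟨y.1.1, y.2⟩, by
        rw [mem_support_localizedModule_iff]
        have h1 : PrimeSpectrum.comap (algebraMap R (Localization.AtPrime p))
            (e.symm ⟨y.1.1, y.2⟩) = y.1.1 := by
          have := e.apply_symm_apply ⟨y.1.1, y.2⟩
          exact congrArg Subtype.val this
        rw [h1, Module.mem_support_iff_of_finite]
        exact y.1.2⟩
    refine Order.krullDim_le_of_strictMono g ?_
    intro a b hab
    exact e.symm.strictMono hab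

end Support

section Graded

variable {ι : Type} [AddCommGroup ι] [DecidableEq ι]
variable {R : Type u} [CommRing R] (𝒜 : ι → AddSubgroup R) [GradedRing 𝒜]
variable {M : Type u} [AddCommGroup M] [Module R M] (ℳ : ι → AddSubgroup M)
  [DirectSum.Decomposition ℳ] [SetLike.GradedSMul 𝒜 ℳ]

include ℳ in
/-- the annihilator of a graded module is homogeneous -/
theorem annihilator_isHomogeneous : (Module.annihilator R M).IsHomogeneous 𝒜 := by
  classical
  intro g r hr
  rw [Module.mem_annihilator] at hr ⊢
  intro m
  have hhom : ∀ h, ∀ x ∈ ℳ h, ((DirectSum.decompose 𝒜 r g : 𝒜 g) : R) • x = 0 := by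
    intro h x hx
    rw [← decompose_smul_of_mem 𝒜 ℳ hx r g, hr x]
    simp
  rw [← DirectSum.sum_support_decompose ℳ m, Finset.smul_sum]
  exact Finset.sum_eq_zero fun h _ => hhom h _ (SetLike.coe_mem _)

end Graded

section Final

variable {ι : Type} [AddCommGroup ι] [DecidableEq ι] [Module.Free ℤ ι] [Module.Finite ℤ ι]
variable {R : Type u} [CommRing R] [IsNoetherianRing R] (𝒜 : ι → AddSubgroup R) [GradedRing 𝒜]
variable {M : Type u} [AddCommGroup M] [Module R M] (ℳ : ι → AddSubgroup M)
  [DirectSum.Decomposition ℳ] [SetLike.GradedSMul 𝒜 ℳ] [Module.Finite R M]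
variable (p : Ideal R) [p.IsPrime] [(Ideal.homogeneousCore 𝒜 p).toIdeal.IsPrime]

include ℳ in
theorem supportDim_core (d : ℕ)
    (hd : (p.map (Ideal.Quotient.mk (Ideal.homogeneousCore 𝒜 p).toIdeal)).height = d)
    (hsupp : Nontrivial (LocalizedModule p.primeCompl M)) :
    Module.supportDim (Localization.AtPrime p) (LocalizedModule p.primeCompl M) =
      Module.supportDim (Localization.AtPrime (Ideal.homogeneousCore 𝒜 p).toIdeal)
        (LocalizedModule (Ideal.homogeneousCore 𝒜 p).toIdeal.primeCompl M) + (d : WithBot ℕ∞) := by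
  have hmem : (⟨p, inferInstance⟩ : PrimeSpectrum R) ∈ Module.support R M :=
    Module.mem_support_iff.mpr hsupp
  have hp : Module.annihilator R M ≤ p := Module.annihilator_le_of_mem_support hmem
  have hhom := annihilator_isHomogeneous 𝒜 ℳ
  have hq : Module.annihilator R M ≤ (Ideal.homogeneousCore 𝒜 p).toIdeal := le_core_of_le 𝒜 hhom hp
  rw [supportDim_localizedModule_eq_relHt p M hp, supportDim_localizedModule_eq_relHt _ M hq,
    relHt_eq 𝒜 p _ hhom hq, ← height_map_eq_relHt _ p (Ideal.toIdeal_homogeneousCore_le 𝒜 p), hd]
  rfl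

end Final

end Groth.Agent.H98.GrHt
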