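import Groth.Agent.H98.GrHt.Main
import Groth.Agent.H98.GrStar.PieceArtin
import Groth.Agent.H98.Bass0.StarLocalSoc2
import Groth.Agent.H98.Bass1.Final

set_option autoImplicit false
universe u

/-!
# Positively `ℤ`-graded *local rings: the *maximal ideal is maximal and `ht m = dim R`
-/

namespace Groth.Agent.H98.GrHt

open Groth.Agent.H98.GrStar Groth.Agent.H98.Bass0 DirectSum

variable {R : Type u} [CommRing R] [IsNoetherianRing R] (𝒜 : ℤ → AddSubgroup R) [GradedRing 𝒜]
  (hpos : ∀ n : ℤ, n < 0 → 𝒜 n = ⊥) {m : HomogeneousIdeal 𝒜} (hm : GrLC.IsStarLocal 𝒜 m)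

include hpos in
omit [IsNoetherianRing R] in
theorem hpos_elt : ∀ n : ℤ, n < 0 → ∀ r ∈ 𝒜 n, r = 0 := by
  intro n hn r hr
  rw [hpos n hn] at hr
  exact hr

include hpos hm in
/-- the *maximal ideal of a positively graded *local ring is a maximal ideal -/
theorem isMaximal_of_isStarLocal : m.toIdeal.IsMaximal := by
  classical
  rw [Ideal.isMaximal_iff]
  refine ⟨fun h1 => ne_top_of_isStarLocal 𝒜 hm ((Ideal.eq_top_iff_one _).mpr h1), ?_⟩
  intro J r hmJ hrm hrJ
  -- the degree zero component of `r` is not in `m`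
  have hdiff : r - (decompose 𝒜 r 0 : R) ∈ m.toIdeal := by
    have hsum : r - (decompose 𝒜 r 0 : R) =
        ∑ i ∈ (decompose 𝒜 r).support.erase 0, ((decompose 𝒜 r i : 𝒜 i) : R) := by
      by_cases h0 : (0 : ℤ) ∈ (decompose 𝒜 r).support
      · have h1 := DirectSum.sum_support_decompose 𝒜 r
        rw [← Finset.add_sum_erase _ _ h0] at h1
        rw [eq_comm, ← sub_eq_iff_eq_add'] at h1
        rw [← h1]
      · have hz : (decompose 𝒜 r 0 : R) = 0 := by
          rw [DFinsupp.notMem_support_iff] at h0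
          rw [h0]
          rfl
        rw [hz, sub_zero, Finset.erase_eq_of_notMem h0]
        exact (DirectSum.sum_support_decompose 𝒜 r).symm
    rw [hsum]
    refine Ideal.sum_mem _ fun i hi => ?_
    rw [Finset.mem_erase] at hi
    rcases lt_trichotomy i 0 with hlt | heq | hgt
    · rw [hpos_elt 𝒜 hpos i hlt _ (SetLike.coe_mem _)]
      exact zero_mem _
    · exact absurd heq hi.1
    · exact mem_of_isCoatom_of_pos 𝒜 (hpos_elt 𝒜 hpos) m hm.1 hgt (SetLike.coe_mem _)
  have hr0 : (decompose 𝒜 r 0 : R) ∉ m.toIdeal := by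
    intro h
    apply hrm
    have := add_mem hdiff h
    rwa [sub_add_cancel] at this
  obtain ⟨s, μ, _, hμ, hsum⟩ := exists_inverse_mod_coatom 𝒜 m hm.1 (SetLike.coe_mem _) hr0
  have : (1 : R) = μ - s * (r - (decompose 𝒜 r 0 : R)) + s * r := by
    rw [← hsum]; ring
  rw [this]
  exact add_mem (hmJ (sub_mem hμ (Ideal.mul_mem_left _ _ hdiff))) (Ideal.mul_mem_left _ _ hrJ)

include hpos hm in
/-- in a positively graded *local ring the *maximal ideal has height `dim R` -/
theorem height_eq_ringKrullDim_of_isStarLocal :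
    (m.toIdeal.height : WithBot ℕ∞) = ringKrullDim R := by
  have hmax := isMaximal_of_isStarLocal 𝒜 hpos hm
  have hmprime : m.toIdeal.IsPrime := hmax.isPrime
  apply le_antisymm
  · exact Ideal.height_le_ringKrullDim_of_ne_top hmprime.ne_top
  · rw [ringKrullDim_le_iff_height_le]
    intro P hP
    have hq : (Ideal.homogeneousCore 𝒜 P).toIdeal.IsPrime := isPrime_core 𝒜 P
    have hqP := Ideal.toIdeal_homogeneousCore_le 𝒜 P
    have hqm : (Ideal.homogeneousCore 𝒜 P).toIdeal ≤ m.toIdeal :=
      le_of_isStarLocal 𝒜 hm _ (Ideal.homogeneousCore 𝒜 P).isHomogeneous hq.ne_top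
    have hform := height_eq 𝒜 P
    have hcore : ∀ g, ∀ x ∈ 𝒜 g, x ∈ P → x ∈ (Ideal.homogeneousCore 𝒜 P).toIdeal :=
      fun g x hx hxp => Ideal.mem_homogeneousCore_of_homogeneous_of_mem ⟨g, hx⟩ hxp
    have hle := Groth.Agent.H98.Bass1.height_map_le (Ideal.homogeneousCore 𝒜 P) P hqP hcore
    rw [Module.finrank_self] at hle
    have hle' : (P.map (Ideal.Quotient.mk (Ideal.homogeneousCore 𝒜 P).toIdeal)).height ≤ 1 := by
      exact_mod_cast hle
    have hgoal : P.height ≤ m.toIdeal.height := by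
      by_cases hPq : P ≤ (Ideal.homogeneousCore 𝒜 P).toIdeal
      · exact Ideal.height_mono (hPq.trans hqm)
      · have hne : (Ideal.homogeneousCore 𝒜 P).toIdeal ≠ m.toIdeal := by
          intro heq
          apply hPq
          have hmP : m.toIdeal ≤ P := heq ▸ hqP
          have : m.toIdeal = P := hmax.eq_of_le hP.ne_top hmP
          rw [heq, this]
        have hlt : (Ideal.homogeneousCore 𝒜 P).toIdeal < m.toIdeal := lt_of_le_of_ne hqm hne
        have h1 := Ideal.height_add_one_le_of_lt_of_isPrime hlt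
        rw [hform]
        exact le_trans (by gcongr) h1
    exact_mod_cast hgoal

end Groth.Agent.H98.GrHt
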