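import Groth.Agent.H98.GrHt.RelHt
import Groth.Agent.H98.GrStar.Summand

set_option autoImplicit false
universe u

/-!
# The height formula `ht p = ht p* + ht(p/p*)` for rings graded by a finitely generated
free abelian group
-/

namespace Groth.Agent.H98.GrHt

open Groth.Agent.H98.GrStar

variable {ι : Type} [AddCommGroup ι] [DecidableEq ι] [Module.Free ℤ ι] [Module.Finite ℤ ι]
variable {R : Type u} [CommRing R] (𝒜 : ι → AddSubgroup R) [GradedRing 𝒜]

/-- the homogeneous core of a prime is prime -/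
theorem isPrime_core (P : Ideal R) [hP : P.IsPrime] :
    (Ideal.homogeneousCore 𝒜 P).toIdeal.IsPrime := by
  apply isPrime_of_homogeneous 𝒜 _ (Ideal.homogeneousCore 𝒜 P).isHomogeneous
  · intro h
    have := Ideal.toIdeal_homogeneousCore_le 𝒜 P
    rw [h] at this
    exact hP.ne_top (top_le_iff.mp this)
  · intro x y hx hy hxy
    have hxyP := Ideal.toIdeal_homogeneousCore_le 𝒜 P hxy
    rcases hP.mem_or_mem hxyP with h | h
    · exact Or.inl (Ideal.mem_homogeneousCore_of_homogeneous_of_mem hx h)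
    · exact Or.inr (Ideal.mem_homogeneousCore_of_homogeneous_of_mem hy h)

omit [Module.Free ℤ ι] [Module.Finite ℤ ι] in
theorem le_core_of_le {I P : Ideal R} (hI : I.IsHomogeneous 𝒜) (h : I ≤ P) :
    I ≤ (Ideal.homogeneousCore 𝒜 P).toIdeal := by
  rw [← hI.toIdeal_homogeneousCore_eq_self]
  exact Ideal.homogeneousCore_mono 𝒜 h

omit [Module.Free ℤ ι] [Module.Finite ℤ ι] in
/-- a homogeneous ideal not contained in another one has a homogeneous element outside -/
theorem exists_homogeneous_mem_notMem {q P₀ : Ideal R} (hq : q.IsHomogeneous 𝒜) (h : ¬ q ≤ P₀) :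
    ∃ a : R, SetLike.IsHomogeneousElem 𝒜 a ∧ a ∈ q ∧ a ∉ P₀ := by
  classical
  by_contra hcon
  push Not at hcon
  apply h
  intro x hx
  rw [← DirectSum.sum_support_decompose 𝒜 x]
  refine Ideal.sum_mem _ fun i _ => ?_
  exact hcon _ ⟨i, SetLike.coe_mem _⟩ (hq i hx)

section Step

variable [IsNoetherianRing R] (P : Ideal R) [P.IsPrime]
  [hq : (Ideal.homogeneousCore 𝒜 P).toIdeal.IsPrime]

/-- one step of the induction -/
theorem step (I : Ideal R) (hI : I.IsHomogeneous 𝒜)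
    (hIq : I ≤ (Ideal.homogeneousCore 𝒜 P).toIdeal) :
    relHt I P (hIq.trans (Ideal.toIdeal_homogeneousCore_le 𝒜 P)) ≤
        relHt I _ hIq + relHt _ P (Ideal.toIdeal_homogeneousCore_le 𝒜 P) ∨
      ∃ (I' : Ideal R) (_ : I'.IsHomogeneous 𝒜) (hI'q : I' ≤ (Ideal.homogeneousCore 𝒜 P).toIdeal),
        relHt I' _ hI'q + 1 ≤ relHt I _ hIq ∧
          relHt I P (hIq.trans (Ideal.toIdeal_homogeneousCore_le 𝒜 P)) ≤
            relHt I' P (hI'q.trans (Ideal.toIdeal_homogeneousCore_le 𝒜 P)) + 1 := by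
  have hqP := Ideal.toIdeal_homogeneousCore_le 𝒜 P
  obtain ⟨P₀', hP₀', hIP₀', hP₀'P, hle⟩ := exists_prime_relHt_le I P (hIq.trans hqP)
  have hP₀ : (Ideal.homogeneousCore 𝒜 P₀').toIdeal.IsPrime := isPrime_core 𝒜 P₀'
  set P₀ := (Ideal.homogeneousCore 𝒜 P₀').toIdeal with hP₀def
  have hP₀hom : P₀.IsHomogeneous 𝒜 := (Ideal.homogeneousCore 𝒜 P₀').isHomogeneous
  have hIP₀ : I ≤ P₀ := le_core_of_le 𝒜 hI hIP₀'
  have hP₀P₀' : P₀ ≤ P₀' := Ideal.toIdeal_homogeneousCore_le 𝒜 P₀'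
  have hP₀q : P₀ ≤ (Ideal.homogeneousCore 𝒜 P).toIdeal := Ideal.homogeneousCore_mono 𝒜 hP₀'P
  have h1 : relHt I P (hIq.trans hqP) ≤ relHt P₀ P (hP₀q.trans hqP) :=
    hle.trans (relHt_anti hP₀P₀' hP₀'P)
  by_cases hcase : (Ideal.homogeneousCore 𝒜 P).toIdeal ≤ P₀
  · left
    have heq : P₀ = (Ideal.homogeneousCore 𝒜 P).toIdeal := le_antisymm hP₀q hcase
    refine h1.trans ?_
    rw [relHt_congr heq]
    exact le_add_self
  · right
    obtain ⟨a, hahom, haq, haP₀⟩ :=
      exists_homogeneous_mem_notMem 𝒜 (Ideal.homogeneousCore 𝒜 P).isHomogeneous hcase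
    have hI'hom : (P₀ ⊔ Ideal.span {a}).IsHomogeneous 𝒜 := by
      refine hP₀hom.sup (Ideal.homogeneous_span 𝒜 _ ?_)
      intro x hx
      rw [Set.mem_singleton_iff] at hx
      rw [hx]
      exact hahom
    have hI'q : P₀ ⊔ Ideal.span {a} ≤ (Ideal.homogeneousCore 𝒜 P).toIdeal :=
      sup_le hP₀q ((Ideal.span_singleton_le_iff_mem _).mpr haq)
    refine ⟨P₀ ⊔ Ideal.span {a}, hI'hom, hI'q, ?_, ?_⟩
    · have h2 := relHt_add_one_le (P₀ := P₀) (I' := P₀ ⊔ Ideal.span {a})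
        (Q := (Ideal.homogeneousCore 𝒜 P).toIdeal) le_sup_left hI'q (a := a)
        (Ideal.mem_sup_right (Ideal.mem_span_singleton_self a)) haP₀
      exact h2.trans (relHt_anti hIP₀ hP₀q)
    · exact h1.trans (relHt_le_relHt_sup_span_add_one (hP₀q.trans hqP) (hqP haq))

/-- the main inequality, by induction on the relative height of the core -/
theorem relHt_le_aux (n : ℕ) : ∀ (I : Ideal R) (_ : I.IsHomogeneous 𝒜)
    (hIq : I ≤ (Ideal.homogeneousCore 𝒜 P).toIdeal), relHt I _ hIq ≤ n →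
    relHt I P (hIq.trans (Ideal.toIdeal_homogeneousCore_le 𝒜 P)) ≤
        relHt I _ hIq + relHt _ P (Ideal.toIdeal_homogeneousCore_le 𝒜 P) := by
  induction n with
  | zero =>
    intro I hI hIq hn
    rcases step 𝒜 P I hI hIq with h | ⟨I', hI', hI'q, h1, h2⟩
    · exact h
    · exfalso
      have : relHt I' _ hI'q + 1 ≤ 0 := h1.trans (by exact_mod_cast hn)
      simp at this
  | succ n ih =>
    intro I hI hIq hn
    rcases step 𝒜 P I hI hIq with h | ⟨I', hI', hI'q, h1, h2⟩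
    · exact h
    · have h3 : relHt I' _ hI'q ≤ n := by
        have h4 : relHt I' _ hI'q + 1 ≤ (n : ℕ∞) + 1 := h1.trans (by exact_mod_cast hn)
        exact (ENat.add_le_add_iff_right ENat.one_ne_top).mp h4
      have h5 := ih I' hI' hI'q h3
      calc relHt I P _ ≤ relHt I' P _ + 1 := h2
        _ ≤ relHt I' _ hI'q + relHt _ P (Ideal.toIdeal_homogeneousCore_le 𝒜 P) + 1 := by gcongr
        _ = relHt I' _ hI'q + 1 + relHt _ P (Ideal.toIdeal_homogeneousCore_le 𝒜 P) := by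
            rw [add_assoc, add_assoc, add_comm 1]
        _ ≤ _ := by gcongr

/-- the relative height formula -/
theorem relHt_eq (I : Ideal R) (hI : I.IsHomogeneous 𝒜)
    (hIq : I ≤ (Ideal.homogeneousCore 𝒜 P).toIdeal) :
    relHt I P (hIq.trans (Ideal.toIdeal_homogeneousCore_le 𝒜 P)) =
        relHt I _ hIq + relHt _ P (Ideal.toIdeal_homogeneousCore_le 𝒜 P) := by
  apply le_antisymm
  · obtain ⟨n, hn⟩ := ENat.ne_top_iff_exists.mp (relHt_ne_top I _ hIq)
    exact relHt_le_aux 𝒜 P n I hI hIq hn.symm.le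
  · exact relHt_add_le hIq (Ideal.toIdeal_homogeneousCore_le 𝒜 P)

/-- the height formula -/
theorem height_eq :
    P.height = (Ideal.homogeneousCore 𝒜 P).toIdeal.height +
      (P.map (Ideal.Quotient.mk (Ideal.homogeneousCore 𝒜 P).toIdeal)).height := by
  rw [height_eq_relHt_bot P, height_eq_relHt_bot (Ideal.homogeneousCore 𝒜 P).toIdeal,
    height_map_eq_relHt _ P (Ideal.toIdeal_homogeneousCore_le 𝒜 P)]
  exact relHt_eq 𝒜 P ⊥ (Ideal.IsHomogeneous.bot 𝒜) bot_le

end Step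

end Groth.Agent.H98.GrHt
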