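import Groth.Agent.H98.GrHt.StarLocalDim
import Groth.Agent.H98.Bass1.DepthShift
import Groth.Agent.H98.Bass0.GorTop2

set_option autoImplicit false
universe u

/-!
# Cohen–Macaulay *local rings: `*H^i_m(R) = 0` for `i < ht m`
-/

namespace Groth.Agent.H98.GrHt

open Groth.Agent.H98.GrStar Groth.Agent.H98.Bass0 Groth.Agent.H98.Bass1 IsLocalRing
  CategoryTheory Abelian

section Bass

variable {R : Type u} [CommRing R] [LocCoh.IsCohenMacaulayRing R] (p : Ideal R) [p.IsPrime]

/-- Bass numbers of a Cohen–Macaulay ring vanish below the height -/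
theorem bassNum_eq_zero_of_cm (n : ℕ) (hn : p.height = n) (i : ℕ) (hi : i < n) :
    GrLC.bassNum p R i = 0 := by
  have hcm : LocCoh.IsCohenMacaulayLocalRing (Localization.AtPrime p) :=
    LocCoh.IsCohenMacaulayRing.isCohenMacaulayLocalRing_localization p
  have h1 := hcm.supportDim_eq_depth
  rw [Module.supportDim_self_eq_ringKrullDim,
    IsLocalization.AtPrime.ringKrullDim_eq_height p (Localization.AtPrime p), hn] at h1
  have h2 : ((n : ℕ) : ℕ∞) = LocCoh.depth (Localization.AtPrime p) (Localization.AtPrime p) := by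
    exact_mod_cast h1
  have h3 := (le_depth_iff (A := Localization.AtPrime p) (Localization.AtPrime p) n).mp h2.le i hi
  rw [bassNum_self_eq, Module.length_eq_zero_iff]
  exact h3

end Bass

section Vanish

variable {ι : Type} [AddCommGroup ι] [DecidableEq ι] [Module.Free ℤ ι] [Module.Finite ℤ ι]
variable {R : Type u} [CommRing R] [LocCoh.IsCohenMacaulayRing R] (𝒜 : ι → AddSubgroup R)
  [GradedRing 𝒜]

/-- a module with vanishing torsion has vanishing graded local cohomology -/
theorem H_subsingleton_of_gam_eq_bot {M : Type u} [AddCommGroup M] [Module R M]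
    {ℳ : ι → AddSubgroup M} [DirectSum.Decomposition ℳ] [SetLike.GradedSMul 𝒜 ℳ]
    (E : GrLC.StarInjRes 𝒜 ℳ) (a : HomogeneousIdeal 𝒜) (i : ℕ)
    (h : GrLC.gam a.toIdeal (E.X i).carrier = ⊥) : Subsingleton (E.H a i) := by
  have hc : E.cocyc a i = ⊥ := by
    unfold GrLC.StarInjRes.cocyc
    rw [h, bot_inf_eq]
  have : Subsingleton ↥(E.cocyc a i) := by
    rw [hc]
    infer_instance
  infer_instance

theorem H_subsingleton_of_cm (m : HomogeneousIdeal 𝒜) (hm : GrLC.IsStarLocal 𝒜 m) (n : ℕ)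
    (hn : m.toIdeal.height = n) (I : GrLC.StarInjRes 𝒜 𝒜) (i : ℕ) (hi : i < n) :
    Subsingleton (I.H m i) := by
  have hprime : m.toIdeal.IsPrime := isPrime_of_isStarLocal 𝒜 hm
  let X : GrLC.StarInjRes 𝒜 𝒜 := minRes 𝒜 𝒜
  have hE : IsMinimal X := minRes_isMinimal 𝒜 𝒜
  have hgam : GrLC.gam m.toIdeal (X.X i).carrier = ⊥ := by
    apply gam_eq_bot_of_soc_eq_bot 𝒜 hm (X.X i).gr
    have h1 : socLen m X i = 0 := by
      rw [← hE.bassNum_eq m i]
      exact bassNum_eq_zero_of_cm m.toIdeal n hn i hi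
    rw [socLen, Module.length_eq_zero_iff] at h1
    exact (Submodule.subsingleton_iff_eq_bot).mp h1
  have := H_subsingleton_of_gam_eq_bot 𝒜 X m i hgam
  exact (resEquiv m I X i).toEquiv.subsingleton

end Vanish

section Pos

variable {R : Type u} [CommRing R] [LocCoh.IsCohenMacaulayRing R] (𝒜 : ℤ → AddSubgroup R)
  [GradedRing 𝒜] (hpos : ∀ n : ℤ, n < 0 → 𝒜 n = ⊥)

include hpos in
/-- positively graded Cohen–Macaulay *local rings: `*H^i_m(R) = 0` for `i < dim R` -/
theorem H_subsingleton_of_cm_pos (m : HomogeneousIdeal 𝒜) (hm : GrLC.IsStarLocal 𝒜 m) (n : ℕ)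
    (hn : ringKrullDim R = n) (I : GrLC.StarInjRes 𝒜 𝒜) (i : ℕ) (hi : i < n) :
    Subsingleton (I.H m i) := by
  have h1 := height_eq_ringKrullDim_of_isStarLocal 𝒜 hpos hm
  rw [hn] at h1
  have h2 : m.toIdeal.height = n := by exact_mod_cast h1
  exact H_subsingleton_of_cm 𝒜 m hm n h2 I i hi

end Pos

end Groth.Agent.H98.GrHt
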