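import Groth.Agent.H98.GrHt.AInvStep
import Groth.Agent.H98.GrStar.PieceClass

set_option autoImplicit false
universe u

/-!
# The a-invariant under quotient by a homogeneous regular sequence
-/

namespace Groth.Agent.H98.GrHt

open Groth.Agent.H98.GrStar Pointwise

section Iso

variable {R : Type u} [CommRing R] [IsNoetherianRing R] {𝒜 : ℤ → AddSubgroup R} [GradedRing 𝒜]
variable {M : Type u} [AddCommGroup M] [Module R M] {ℳ : ℤ → AddSubgroup M}
  [DirectSum.Decomposition ℳ] [SetLike.GradedSMul 𝒜 ℳ]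
variable {N : Type u} [AddCommGroup N] [Module R N] {𝒩 : ℤ → AddSubgroup N}
  [DirectSum.Decomposition 𝒩] [SetLike.GradedSMul 𝒜 𝒩]

/-- a homogeneous isomorphism induces isomorphisms on graded local cohomology -/
theorem iso_transfer (a : HomogeneousIdeal 𝒜) (π : M →ₗ[R] N) (hπ : GrLC.IsGrHom ℳ 𝒩 π)
    (hbij : Function.Bijective π) (E : GrLC.StarInjRes 𝒜 ℳ) (F : GrLC.StarInjRes 𝒜 𝒩) (i : ℕ) :
    (Subsingleton (E.H a i) → Subsingleton (F.H a i)) ∧
      GrLC.endDeg (F.Hgr a i) = GrLC.endDeg (E.Hgr a i) := by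
  let e : M ≃ₗ[R] N := LinearEquiv.ofBijective π hbij
  have he : ∀ m, e m = π m := fun _ => rfl
  have hsymm : GrLC.IsGrHom 𝒩 ℳ e.symm.toLinearMap := by
    intro g y hy
    apply GrSES.mem_of_map_mem ℳ 𝒩 π hπ hbij.1
    change π (e.symm y) ∈ 𝒩 g
    rw [← he, LinearEquiv.apply_symm_apply]
    exact hy
  have h1 : ∀ x : E.H a i, Hmap a e.symm.toLinearMap F E i (Hmap a π E F i x) = x := by
    intro x
    rw [← Hmap_comp]
    have : e.symm.toLinearMap ∘ₗ π = LinearMap.id := by
      ext m
      change e.symm (π m) = m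
      rw [← he, LinearEquiv.symm_apply_apply]
    rw [this, Hmap_id]
  have h2 : ∀ y : F.H a i, Hmap a π E F i (Hmap a e.symm.toLinearMap F E i y) = y := by
    intro y
    rw [← Hmap_comp]
    have : π ∘ₗ e.symm.toLinearMap = LinearMap.id := by
      ext m
      change π (e.symm m) = m
      rw [← he, LinearEquiv.apply_symm_apply]
    rw [this, Hmap_id]
  constructor
  · intro hs
    refine ⟨fun y y' => ?_⟩
    rw [← h2 y, ← h2 y', Subsingleton.elim (Hmap a e.symm.toLinearMap F E i y)
      (Hmap a e.symm.toLinearMap F E i y')]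
  · have key : ∀ g, F.Hgr a i g ≠ ⊥ ↔ E.Hgr a i g ≠ ⊥ := by
      intro g
      constructor
      · intro hg
        obtain ⟨y, hy0⟩ := AddSubgroup.ne_bot_iff_exists_ne_zero.mp hg
        intro hbot
        have hmem := Hmap_isGrHom a e.symm.toLinearMap hsymm F E i g y y.2
        rw [hbot, AddSubgroup.mem_bot] at hmem
        apply hy0
        apply Subtype.ext
        rw [← h2 (y : F.H a i), hmem, map_zero]
        rfl
      · intro hg
        obtain ⟨y, hy0⟩ := AddSubgroup.ne_bot_iff_exists_ne_zero.mp hg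
        intro hbot
        have hmem := Hmap_isGrHom a π hπ E F i g y y.2
        rw [hbot, AddSubgroup.mem_bot] at hmem
        apply hy0
        apply Subtype.ext
        rw [← h1 (y : E.H a i), hmem, map_zero]
        rfl
    unfold GrLC.endDeg
    simp only [key]

end Iso

section Seq

variable {R : Type u} [CommRing R] [IsNoetherianRing R] (𝒜 : ℤ → AddSubgroup R) [GradedRing 𝒜]
  (hpos : ∀ n : ℤ, n < 0 → 𝒜 n = ⊥) (a : HomogeneousIdeal 𝒜)

include hpos in
/-- the a-invariant formula for a homogeneous regular sequence -/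
theorem ainv_seq : ∀ (t : ℕ) (X : GrLC.GMod.{u} 𝒜) (E : GrLC.StarInjRes 𝒜 X.gr) (r : ℕ)
    (_ : ∀ i < r + t, Subsingleton (E.H a i))
    (f : Fin t → R) (deg : Fin t → ℤ) (_ : ∀ i, f i ∈ 𝒜 (deg i)) (_ : ∀ i, f i ∈ a.toIdeal)
    (_ : RingTheory.Sequence.IsWeaklyRegular X.carrier (List.ofFn f))
    (Y : GrLC.GMod.{u} 𝒜) (π : X.carrier →ₗ[R] Y.carrier) (_ : GrLC.IsGrHom X.gr Y.gr π)
    (_ : Function.Surjective π)
    (_ : LinearMap.ker π = Ideal.span (Set.range f) • (⊤ : Submodule R X.carrier))
    (F : GrLC.StarInjRes 𝒜 Y.gr),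
    (∀ i < r, Subsingleton (F.H a i)) ∧
      GrLC.endDeg (F.Hgr a r) = GrLC.endDeg (E.Hgr a (r + t)) +
        (((∑ i, deg i : ℤ) : WithTop ℤ) : WithBot (WithTop ℤ)) := by
  intro t
  induction t with
  | zero =>
    intro X E r hvan f deg hfdeg hfa hreg Y π hπ hπs hπk F
    have hinj : Function.Injective π := by
      rw [← LinearMap.ker_eq_bot, hπk]
      have : Set.range f = ∅ := Set.range_eq_empty f
      rw [this, Ideal.span_empty, Submodule.bot_smul]
    constructor
    · intro i hi
      exact (iso_transfer a π hπ ⟨hinj, hπs⟩ E F i).1 (hvan i (by omega))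
    · rw [(iso_transfer a π hπ ⟨hinj, hπs⟩ E F r).2]
      simp
  | succ t ih =>
    intro X E r hvan f deg hfdeg hfa hreg Y π hπ hπs hπk F
    -- the first element
    set x := f 0 with hx
    set k := deg 0 with hk
    have hxk : x ∈ 𝒜 k := hfdeg 0
    rw [List.ofFn_succ, RingTheory.Sequence.isWeaklyRegular_cons_iff] at hreg
    obtain ⟨hxreg, hreg'⟩ := hreg
    let Q : GrLC.GMod.{u} 𝒜 := quotSMul 𝒜 X hxk
    let ρ : X.carrier →ₗ[R] Q.carrier :=
      Submodule.mkQ (LinearMap.range (x • (LinearMap.id : X.carrier →ₗ[R] X.carrier)))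
    have hρs : Function.Surjective ρ := Submodule.mkQ_surjective _
    have hρg : GrLC.IsGrHom X.gr Q.gr ρ := quotGMod_isGrHom 𝒜 X.gr _ _ _
    have hρk : LinearMap.ker ρ =
        LinearMap.range (x • (LinearMap.id : X.carrier →ₗ[R] X.carrier)) := Submodule.ker_mkQ _
    let EQ : GrLC.StarInjRes 𝒜 Q.gr := res 𝒜 Q.gr
    have hkx : 0 ≤ k ∨ x = 0 := by
      by_cases h0 : 0 ≤ k
      · exact Or.inl h0
      · right
        have := hpos k (by omega)
        rw [this] at hxk
        exact hxk
    -- vanishing for the quotient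
    have hvanQ : ∀ i < r + t, Subsingleton (EQ.H a i) := fun i hi =>
      step_vanish a E EQ x hxk hxreg ρ hρs hρg hρk i (hvan i (by omega)) (hvan (i + 1) (by omega))
    have hendQ := step_endDeg a E EQ x hxk hxreg ρ hρs hρg hρk (hfa 0) hkx (r + t)
      (hvan (r + t) (by omega))
    -- the rest of the sequence is regular on the quotient
    have hrange : LinearMap.range (x • (LinearMap.id : X.carrier →ₗ[R] X.carrier)) =
        x • (⊤ : Submodule R X.carrier) := by
      ext y
      constructor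
      · rintro ⟨z, rfl⟩
        exact Submodule.smul_mem_pointwise_smul z x ⊤ Submodule.mem_top
      · intro hy
        obtain ⟨z, _, rfl⟩ := (Submodule.mem_smul_pointwise_iff_exists y x ⊤).mp hy
        exact ⟨z, rfl⟩
    let eQ : QuotSMulTop x X.carrier ≃ₗ[R] Q.carrier := Submodule.quotEquivOfEq _ _ hrange.symm
    have hregQ : RingTheory.Sequence.IsWeaklyRegular Q.carrier (List.ofFn fun i : Fin t => f i.succ) :=
      (eQ.isWeaklyRegular_congr _).mp hreg'
    -- the induced map `Q → Y`
    have hle : LinearMap.range (x • (LinearMap.id : X.carrier →ₗ[R] X.carrier)) ≤ LinearMap.ker π := by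
      rw [hπk]
      rintro _ ⟨z, rfl⟩
      exact Submodule.smul_mem_smul (Ideal.subset_span ⟨0, rfl⟩) Submodule.mem_top
    let π' : Q.carrier →ₗ[R] Y.carrier := Submodule.liftQ _ π hle
    have hπ'ρ : ∀ z, π' (ρ z) = π z := fun z => rfl
    have hπ'g : GrLC.IsGrHom Q.gr Y.gr π' := by
      rintro g _ ⟨z, hz, rfl⟩
      exact hπ g z hz
    have hπ's : Function.Surjective π' := by
      intro y
      obtain ⟨z, rfl⟩ := hπs y
      exact ⟨ρ z, rfl⟩
    have hxQ : ∀ q : Q.carrier, x • q = 0 := by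
      intro q
      obtain ⟨z, rfl⟩ := hρs q
      rw [← map_smul]
      exact (Submodule.Quotient.mk_eq_zero _).mpr ⟨z, rfl⟩
    have hπ'k : LinearMap.ker π' =
        Ideal.span (Set.range fun i : Fin t => f i.succ) • (⊤ : Submodule R Q.carrier) := by
      have h1 : LinearMap.ker π' = (LinearMap.ker π).map ρ := Submodule.ker_liftQ _ _ _
      rw [h1, hπk, Submodule.map_smul'']
      have h2 : (⊤ : Submodule R X.carrier).map ρ = ⊤ := by
        rw [Submodule.map_top]
        exact LinearMap.range_eq_top.mpr hρs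
      rw [h2]
      have h3 : Set.range f = insert x (Set.range fun i : Fin t => f i.succ) := by
        ext y
        constructor
        · rintro ⟨i, rfl⟩
          refine Fin.cases ?_ (fun j => ?_) i
          · exact Set.mem_insert _ _
          · exact Set.mem_insert_of_mem _ ⟨j, rfl⟩
        · intro hy
          rcases Set.mem_insert_iff.mp hy with h | ⟨j, rfl⟩
          · exact ⟨0, h.symm⟩
          · exact ⟨j.succ, rfl⟩
      rw [h3, Ideal.span_insert, Submodule.sup_smul]
      have h4 : Ideal.span {x} • (⊤ : Submodule R Q.carrier) = ⊥ := by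
        rw [eq_bot_iff, Submodule.smul_le]
        intro s hs q _
        obtain ⟨c, rfl⟩ := Ideal.mem_span_singleton'.mp hs
        rw [mul_smul, hxQ, smul_zero]
        exact Submodule.zero_mem _
      rw [h4, bot_sup_eq]
    obtain ⟨hv, hend⟩ := ih Q EQ r hvanQ (fun i => f i.succ) (fun i => deg i.succ)
      (fun i => hfdeg i.succ) (fun i => hfa i.succ) hregQ Y π' hπ'g hπ's hπ'k F
    refine ⟨hv, ?_⟩
    rw [hend, hendQ, Fin.sum_univ_succ, add_assoc]
    congr 1

end Seq

end Groth.Agent.H98.GrHt
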