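import Groth.Agent.H98.GrStar.GrLES3
import Groth.Agent.H98.GrStar.HighVanish
import Groth.Agent.H98.GrStar.EndDeg

set_option autoImplicit false
universe u

/-!
# The a-invariant under quotient by a homogeneous regular element: one step
-/

namespace Groth.Agent.H98.GrHt

open Groth.Agent.H98.GrStar

section EndCompare

variable {G H : Type u} [AddCommGroup G] [AddCommGroup H]

/-- comparing ends of two graded objects up to a shift -/
theorem endDeg_eq_add (𝒢 : ℤ → AddSubgroup G) (ℋ : ℤ → AddSubgroup H) (k : ℤ)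
    (h1 : ∀ g, ℋ g ≠ ⊥ → 𝒢 (g - k) ≠ ⊥)
    (h2 : ∀ j, 𝒢 j ≠ ⊥ → ∃ j', j ≤ j' ∧ ℋ (j' + k) ≠ ⊥) :
    GrLC.endDeg ℋ = GrLC.endDeg 𝒢 + ((k : WithTop ℤ) : WithBot (WithTop ℤ)) := by
  apply le_antisymm
  · refine iSup₂_le fun g hg => ?_
    have h3 := le_endDeg 𝒢 (g - k) (h1 g hg)
    have h4 : ((g : WithTop ℤ) : WithBot (WithTop ℤ)) =
        (((g - k : ℤ) : WithTop ℤ) : WithBot (WithTop ℤ)) +
          ((k : WithTop ℤ) : WithBot (WithTop ℤ)) := by
      rw [← WithBot.coe_add, ← WithTop.coe_add, sub_add_cancel]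
    rw [h4]
    exact add_le_add h3 le_rfl
  · have key : GrLC.endDeg 𝒢 ≤
        GrLC.endDeg ℋ + (((-k : ℤ) : WithTop ℤ) : WithBot (WithTop ℤ)) := by
      refine iSup₂_le fun j hj => ?_
      obtain ⟨j', hjj', hj'⟩ := h2 j hj
      have h3 := le_endDeg ℋ (j' + k) hj'
      have h4 : ((j' : WithTop ℤ) : WithBot (WithTop ℤ)) =
          (((j' + k : ℤ) : WithTop ℤ) : WithBot (WithTop ℤ)) +
            (((-k : ℤ) : WithTop ℤ) : WithBot (WithTop ℤ)) := by
        rw [← WithBot.coe_add, ← WithTop.coe_add, add_neg_cancel_right]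
      have h5 : ((j : WithTop ℤ) : WithBot (WithTop ℤ)) ≤ ((j' : WithTop ℤ) : WithBot (WithTop ℤ)) := by
        rw [WithBot.coe_le_coe, WithTop.coe_le_coe]
        exact hjj'
      refine h5.trans ?_
      rw [h4]
      exact add_le_add h3 le_rfl
    calc GrLC.endDeg 𝒢 + ((k : WithTop ℤ) : WithBot (WithTop ℤ))
        ≤ GrLC.endDeg ℋ + (((-k : ℤ) : WithTop ℤ) : WithBot (WithTop ℤ)) +
            ((k : WithTop ℤ) : WithBot (WithTop ℤ)) := add_le_add key le_rfl
      _ = GrLC.endDeg ℋ := by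
        rw [add_assoc, ← WithBot.coe_add, ← WithTop.coe_add, neg_add_cancel]
        simp

end EndCompare

section Step

variable {R : Type u} [CommRing R] [IsNoetherianRing R] {𝒜 : ℤ → AddSubgroup R} [GradedRing 𝒜]
variable {M : Type u} [AddCommGroup M] [Module R M] {ℳ : ℤ → AddSubgroup M}
  [DirectSum.Decomposition ℳ] [SetLike.GradedSMul 𝒜 ℳ]
variable {Q : Type u} [AddCommGroup Q] [Module R Q] {𝒬 : ℤ → AddSubgroup Q}
  [DirectSum.Decomposition 𝒬] [SetLike.GradedSMul 𝒜 𝒬]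
variable (a : HomogeneousIdeal 𝒜) (E : GrLC.StarInjRes 𝒜 ℳ) (EQ : GrLC.StarInjRes 𝒜 𝒬)
  (x : R) {k : ℤ} (hx : x ∈ 𝒜 k) (hreg : IsSMulRegular M x)
  (ρ : M →ₗ[R] Q) (hρ : Function.Surjective ρ) (hρg : GrLC.IsGrHom ℳ 𝒬 ρ)
  (hker : LinearMap.ker ρ = LinearMap.range (x • (LinearMap.id : M →ₗ[R] M)))

include hx hreg hρ hρg hker in
/-- vanishing passes to the quotient, one degree lower -/
theorem step_vanish (i : ℕ) (h1 : Subsingleton (E.H a i)) (h2 : Subsingleton (E.H a (i + 1))) :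
    Subsingleton (EQ.H a i) := by
  let T := mulSES x hx hreg ρ hρ hρg hker
  refine ⟨fun y y' => ?_⟩
  have key : ∀ z : EQ.H a i, z = 0 := by
    intro z
    have hδ : T.Hδ a (shiftDeg E k) EQ i z = 0 := by
      have : Subsingleton ((shiftDeg E k).H a (i + 1)) := h2
      exact Subsingleton.elim _ _
    obtain ⟨w, hw⟩ := T.exact_right a (shiftDeg E k) E EQ i z hδ
    rw [← hw, Subsingleton.elim w 0, map_zero]
  rw [key y, key y']

include hx hreg hρ hρg hker in
/-- the end of the quotient's local cohomology -/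
theorem step_endDeg (hxa : x ∈ a.toIdeal) (hk : 0 ≤ k ∨ x = 0) (r : ℕ)
    (h : Subsingleton (E.H a r)) :
    GrLC.endDeg (EQ.Hgr a r) =
      GrLC.endDeg (E.Hgr a (r + 1)) + ((k : WithTop ℤ) : WithBot (WithTop ℤ)) := by
  let T := mulSES x hx hreg ρ hρ hρg hker
  have hu : ∀ z : (shiftDeg E k).H a (r + 1),
      Hmap a T.u (shiftDeg E k) E (r + 1) z = x • (show E.H a (r + 1) from z) := fun z =>
    Hmap_shiftDeg_smul a E x k T.u (fun _ => rfl) (r + 1) z
  apply endDeg_eq_add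
  · intro g hg
    obtain ⟨y, hy0⟩ := AddSubgroup.ne_bot_iff_exists_ne_zero.mp hg
    have hyg : (y : EQ.H a r) ∈ EQ.Hgr a r g := y.2
    have hy0' : (y : EQ.H a r) ≠ 0 := fun h0 => hy0 (Subtype.ext h0)
    have hδg : T.Hδ a (shiftDeg E k) EQ r y ∈ (shiftDeg E k).Hgr a (r + 1) g :=
      T.Hδ_isGrHom a (shiftDeg E k) EQ r g y hyg
    have hδ0 : T.Hδ a (shiftDeg E k) EQ r y ≠ 0 := by
      intro h0
      obtain ⟨w, hw⟩ := T.exact_right a (shiftDeg E k) E EQ r y h0
      apply hy0'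
      rw [← hw, Subsingleton.elim w 0, map_zero]
    intro hbot
    have hmem : (show E.H a (r + 1) from T.Hδ a (shiftDeg E k) EQ r y) ∈ E.Hgr a (r + 1) (g - k) :=
      hδg
    rw [hbot, AddSubgroup.mem_bot] at hmem
    exact hδ0 hmem
  · intro j hj
    obtain ⟨y, hy0⟩ := AddSubgroup.ne_bot_iff_exists_ne_zero.mp hj
    have hyj : (y : E.H a (r + 1)) ∈ E.Hgr a (r + 1) j := y.2
    have hy0' : (y : E.H a (r + 1)) ≠ 0 := fun h0 => hy0 (Subtype.ext h0)
    -- a power of `x` kills `y`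
    have hex : ∃ N : ℕ, x ^ N • (y : E.H a (r + 1)) = 0 := by
      obtain ⟨N, hN⟩ := exists_pow_smul_eq_zero E a (r + 1) (y : E.H a (r + 1))
      exact ⟨N, hN _ (Ideal.pow_mem_pow hxa N)⟩
    classical
    let N := Nat.find hex
    have hN : x ^ N • (y : E.H a (r + 1)) = 0 := Nat.find_spec hex
    have hN1 : 1 ≤ N := by
      by_contra hlt
      have : N = 0 := by omega
      rw [this, pow_zero, one_smul] at hN
      exact hy0' hN
    have hmin : x ^ (N - 1) • (y : E.H a (r + 1)) ≠ 0 :=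
      Nat.find_min hex (by omega : N - 1 < N)
    set h' : E.H a (r + 1) := x ^ (N - 1) • (y : E.H a (r + 1)) with hh'
    have hxh' : x • h' = 0 := by
      rw [hh', ← mul_smul, ← pow_succ', Nat.sub_add_cancel hN1]
      exact hN
    have hpow : x ^ (N - 1) ∈ 𝒜 ((N - 1) • k) := SetLike.pow_mem_graded (N - 1) hx
    have hh'mem : h' ∈ E.Hgr a (r + 1) ((N - 1) • k + j) := smul_mem_Hgr E a hpow (r + 1) _ hyj
    have hge : 0 ≤ ((N - 1) • k : ℤ) := by
      rcases hk with hk | hx0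
      · exact smul_nonneg (Nat.zero_le _) hk
      · have hN' : N = 1 := by
          apply le_antisymm _ hN1
          apply Nat.find_min' hex
          rw [pow_one, hx0, zero_smul]
        rw [hN']
        simp
    refine ⟨(N - 1) • k + j, by omega, ?_⟩
    -- `h'` comes from the quotient
    have hmem' : (show (shiftDeg E k).H a (r + 1) from h') ∈
        (shiftDeg E k).Hgr a (r + 1) ((N - 1) • k + j + k) := by
      change h' ∈ E.Hgr a (r + 1) ((N - 1) • k + j + k - k)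
      rw [add_sub_cancel_right]
      exact hh'mem
    have hzero : Hmap a T.u (shiftDeg E k) E (r + 1) (show (shiftDeg E k).H a (r + 1) from h') = 0 := by
      rw [hu]
      exact hxh'
    obtain ⟨w, hwg, hw⟩ := T.exact_left_deg a (shiftDeg E k) E EQ r _ _ hmem' hzero
    intro hbot
    rw [hbot, AddSubgroup.mem_bot] at hwg
    rw [hwg, map_zero] at hw
    exact hmin hw.symm

end Step

end Groth.Agent.H98.GrHt
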