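import Mathlib

set_option autoImplicit false

/-!
# Heights inside subsets of a partial order
-/

namespace Groth.Agent.H98.GrHt

open Order

section ENatAux

theorem add_one_le_of_forall {a b : ℕ∞} (h : ∀ n : ℕ, (n : ℕ∞) ≤ a → (n : ℕ∞) + 1 ≤ b) :
    a + 1 ≤ b := by
  induction a using ENat.recTopCoe with
  | top =>
    have hb : b = ⊤ := by
      rw [ENat.eq_top_iff_forall_ge]
      intro n
      exact le_trans le_self_add (h n le_top)
    rw [hb]
    exact le_top
  | coe m => exact h m le_rfl

theorem add_le_of_forall {a b c : ℕ∞} (h : ∀ n : ℕ, (n : ℕ∞) ≤ b → a + (n : ℕ∞) ≤ c) :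
    a + b ≤ c := by
  induction b using ENat.recTopCoe with
  | top =>
    have hc : c = ⊤ := by
      rw [ENat.eq_top_iff_forall_ge]
      intro n
      exact le_trans le_add_self (h n le_top)
    rw [hc]
    exact le_top
  | coe m => exact h m le_rfl

end ENatAux

section Poset

variable {X : Type*} [PartialOrder X]

/-- the inclusion of a subset in a bigger one -/
def incl {S T : Set X} (hST : S ⊆ T) : S → T := fun y => ⟨y.1, hST y.2⟩

theorem incl_strictMono {S T : Set X} (hST : S ⊆ T) : StrictMono (incl hST) :=
  fun _ _ hab => hab

theorem height_incl_le {S T : Set X} (hST : S ⊆ T) (x : S) :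
    height x ≤ height (incl hST x) :=
  height_le_height_apply_of_strictMono (incl hST) (incl_strictMono hST) x

/-- prepending an element below the whole of `S` -/
theorem height_add_one_le_incl {S T : Set X} (hST : S ⊆ T) (t₀ : T) (h0 : ∀ y : S, t₀.1 < y.1)
    (x : S) : height x + 1 ≤ height (incl hST x) := by
  apply add_one_le_of_forall
  intro n hn
  obtain ⟨p, hp, hlen⟩ := exists_series_of_le_height x hn
  let p' : LTSeries T := p.map (incl hST) (incl_strictMono hST)
  have hhead : t₀ < p'.head := h0 p.head
  let p'' : LTSeries T := p'.cons t₀ hhead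
  have hlast : p''.last = incl hST x := by
    simp only [p'', p', RelSeries.last_cons, LTSeries.last_map, hp]
  have h1 := length_le_height_last (p := p'')
  rw [hlast] at h1
  have h2 : p''.length = n + 1 := by
    simp only [p'', p', RelSeries.cons_length, LTSeries.map_length, hlen]
  rw [h2] at h1
  exact_mod_cast h1

/-- concatenating chains -/
theorem height_add_height_le {S T : Set X} (hST : S ⊆ T) (q : T) (hq : ∀ y : S, q.1 ≤ y.1)
    (x : S) : height q + height x ≤ height (incl hST x) := by
  apply add_le_of_forall
  intro n
  induction n generalizing x with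
  | zero =>
    intro _
    simp only [Nat.cast_zero, add_zero]
    exact height_mono (hq x)
  | succ n ih =>
    intro hn
    obtain ⟨p, hp, hlen⟩ := exists_series_of_le_height x hn
    have hne : p.length ≠ 0 := by omega
    have hrel : p.eraseLast.last < p.last := p.eraseLast_last_rel_last hne
    have h1 : (n : ℕ∞) ≤ height p.eraseLast.last := by
      have := length_le_height_last (p := p.eraseLast)
      have hl : p.eraseLast.length = n := by
        simp only [RelSeries.eraseLast_length, hlen]; omega
      rw [hl] at this
      exact this
    have h2 := ih p.eraseLast.last h1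
    rw [hp] at hrel
    have h3 : height (incl hST p.eraseLast.last) + 1 ≤ height (incl hST x) :=
      height_add_one_le (incl_strictMono hST hrel)
    calc height q + ((n + 1 : ℕ) : ℕ∞) = height q + (n : ℕ∞) + 1 := by
          push_cast; rw [add_assoc]
      _ ≤ height (incl hST p.eraseLast.last) + 1 := by gcongr
      _ ≤ _ := h3

end Poset

end Groth.Agent.H98.GrHt
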