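import Groth.Agent.H98.GrHt.OrderAux

set_option autoImplicit false

/-!
# Relative heights of primes over ideals
-/

namespace Groth.Agent.H98.GrHt

open Order

variable {R : Type*} [CommRing R]

/-- `V(I)` as a set of primes -/
abbrev VV (I : Ideal R) : Set (PrimeSpectrum R) := PrimeSpectrum.zeroLocus (I : Set R)

/-- the point of `V(I)` given by a prime `P ≥ I` -/
def pt (I P : Ideal R) [hP : P.IsPrime] (h : I ≤ P) : VV I := ⟨⟨P, hP⟩, h⟩

/-- relative height: the height of `P` in `V(I)` -/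
noncomputable def relHt (I P : Ideal R) [P.IsPrime] (h : I ≤ P) : ℕ∞ := height (pt I P h)

theorem VV_anti {I J : Ideal R} (h : I ≤ J) : VV J ⊆ VV I :=
  PrimeSpectrum.zeroLocus_anti_mono h

theorem height_map_eq_relHt (I P : Ideal R) [P.IsPrime] (h : I ≤ P) :
    (P.map (Ideal.Quotient.mk I)).height = relHt I P h := by
  have hprime : (P.map (Ideal.Quotient.mk I)).IsPrime := Ideal.isPrime_map_quotientMk_of_isPrime h
  let P' : PrimeSpectrum (R ⧸ I) := ⟨P.map (Ideal.Quotient.mk I), hprime⟩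
  have h1 : (P.map (Ideal.Quotient.mk I)).height = height P' :=
    PrimeSpectrum.height_eq_orderHeight P'
  rw [h1, ← height_orderIso I.primeSpectrumQuotientOrderIsoZeroLocus P']
  unfold relHt
  congr 1
  apply Subtype.ext
  apply PrimeSpectrum.ext
  change (P.map (Ideal.Quotient.mk I)).comap (Ideal.Quotient.mk I) = P
  rw [Ideal.comap_map_of_surjective _ Ideal.Quotient.mk_surjective, ← RingHom.ker_eq_comap_bot,
    Ideal.mk_ker]
  exact sup_eq_left.mpr h

theorem relHt_anti {I J P : Ideal R} [P.IsPrime] (hIJ : I ≤ J) (hJP : J ≤ P) :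
    relHt J P hJP ≤ relHt I P (hIJ.trans hJP) :=
  height_incl_le (VV_anti hIJ) (pt J P hJP)

theorem relHt_congr {I J P : Ideal R} [P.IsPrime] (hIJ : I = J) (hIP : I ≤ P) :
    relHt I P hIP = relHt J P (hIJ ▸ hIP) := by
  subst hIJ; rfl

/-- prepending a prime -/
theorem relHt_add_one_le {P₀ I' Q : Ideal R} [P₀.IsPrime] [Q.IsPrime] (h0 : P₀ ≤ I')
    (hIQ : I' ≤ Q) {a : R} (haI : a ∈ I') (haP : a ∉ P₀) :
    relHt I' Q hIQ + 1 ≤ relHt P₀ Q (h0.trans hIQ) := by
  refine height_add_one_le_incl (VV_anti h0) (pt P₀ P₀ le_rfl) ?_ (pt I' Q hIQ)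
  intro y
  have hy : I' ≤ y.1.asIdeal := y.2
  change (⟨P₀, _⟩ : PrimeSpectrum R) < y.1
  rw [← PrimeSpectrum.asIdeal_lt_asIdeal]
  refine lt_of_le_of_ne (h0.trans hy) ?_
  intro heq
  apply haP
  have heq' : P₀ = y.1.asIdeal := heq
  rw [heq']
  exact hy haI

/-- concatenating chains -/
theorem relHt_add_le {I q P : Ideal R} [q.IsPrime] [P.IsPrime] (hIq : I ≤ q) (hqP : q ≤ P) :
    relHt I q hIq + relHt q P hqP ≤ relHt I P (hIq.trans hqP) := by
  refine height_add_height_le (VV_anti hIq) (pt I q hIq) ?_ (pt q P hqP)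
  intro y
  have hy : q ≤ y.1.asIdeal := y.2
  change (⟨q, _⟩ : PrimeSpectrum R) ≤ y.1
  rw [← PrimeSpectrum.asIdeal_le_asIdeal]
  exact hy

theorem height_eq_relHt_bot (P : Ideal R) [hP : P.IsPrime] : P.height = relHt ⊥ P bot_le := by
  have h1 : P.height = height (⟨P, hP⟩ : PrimeSpectrum R) :=
    PrimeSpectrum.height_eq_orderHeight ⟨P, hP⟩
  rw [h1]
  apply le_antisymm
  · exact height_le_height_apply_of_strictMono
      (fun x : PrimeSpectrum R => (⟨x, (bot_le : (⊥ : Ideal R) ≤ x.asIdeal)⟩ : VV (⊥ : Ideal R)))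
      (fun _ _ hab => hab) ⟨P, hP⟩
  · exact height_le_height_apply_of_strictMono
      (fun x : VV (⊥ : Ideal R) => x.1) (fun _ _ hab => hab) (pt ⊥ P bot_le)

theorem relHt_ne_top [IsNoetherianRing R] (I P : Ideal R) [P.IsPrime] (h : I ≤ P) :
    relHt I P h ≠ ⊤ := by
  rw [← height_map_eq_relHt]
  have hprime : (P.map (Ideal.Quotient.mk I)).IsPrime := Ideal.isPrime_map_quotientMk_of_isPrime h
  exact Ideal.height_ne_top_of_isPrime

/-- a chain realizing the relative height starts at a prime `P₀ ⊇ I` -/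
theorem exists_prime_relHt_le [IsNoetherianRing R] (I P : Ideal R) [P.IsPrime] (h : I ≤ P) :
    ∃ (P₀ : Ideal R) (_ : P₀.IsPrime) (_ : I ≤ P₀) (h0P : P₀ ≤ P), relHt I P h ≤ relHt P₀ P h0P := by
  obtain ⟨n, hn⟩ := ENat.ne_top_iff_exists.mp (relHt_ne_top I P h)
  obtain ⟨p, hp, hlen⟩ := exists_series_of_height_eq_coe (pt I P h) hn.symm
  let t₀ : VV I := p.head
  have ht₀ : I ≤ t₀.1.asIdeal := t₀.2
  have h0P : t₀.1.asIdeal ≤ P := by
    have : p.head ≤ p.last := LTSeries.head_le_last p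
    rw [hp] at this
    exact (PrimeSpectrum.asIdeal_le_asIdeal _ _).mpr this
  refine ⟨t₀.1.asIdeal, t₀.1.isPrime, ht₀, h0P, ?_⟩
  let p' : LTSeries (VV t₀.1.asIdeal) :=
    { length := p.length
      toFun := fun i => ⟨(p i).1, (PrimeSpectrum.asIdeal_le_asIdeal _ _).mpr (LTSeries.head_le p i)⟩
      step := fun i => p.step i }
  have hlast : p'.last = pt t₀.1.asIdeal P h0P := by
    apply Subtype.ext
    change (p.last).1 = _
    rw [hp]
    rfl
  have h1 := length_le_height_last (p := p')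
  rw [hlast] at h1
  have h2 : p'.length = n := hlen
  rw [h2] at h1
  unfold relHt at hn ⊢
  rw [← hn]
  exact h1

/-- Krull's principal ideal theorem, relative form -/
theorem relHt_le_relHt_sup_span_add_one [IsNoetherianRing R] {P₀ P : Ideal R} [P₀.IsPrime]
    [P.IsPrime] (h0P : P₀ ≤ P) {a : R} (ha : a ∈ P) :
    relHt P₀ P h0P ≤
      relHt (P₀ ⊔ Ideal.span {a}) P (sup_le h0P ((Ideal.span_singleton_le_iff_mem P).mpr ha)) + 1 := by
  have hprime : (P.map (Ideal.Quotient.mk P₀)).IsPrime :=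
    Ideal.isPrime_map_quotientMk_of_isPrime h0P
  have hā : Ideal.Quotient.mk P₀ a ∈ P.map (Ideal.Quotient.mk P₀) := Ideal.mem_map_of_mem _ ha
  have hK := Ideal.height_le_height_add_one_of_mem hā
  have hle : Ideal.span {Ideal.Quotient.mk P₀ a} ≤ P.map (Ideal.Quotient.mk P₀) :=
    (Ideal.span_singleton_le_iff_mem _).mpr hā
  rw [height_map_eq_relHt P₀ P h0P, height_map_eq_relHt _ _ hle] at hK
  refine hK.trans ?_
  gcongr
  -- compare heights via `comap`
  let f : VV (Ideal.span {Ideal.Quotient.mk P₀ a}) → VV (P₀ ⊔ Ideal.span {a}) := fun y =>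
    ⟨PrimeSpectrum.comap (Ideal.Quotient.mk P₀) y.1, by
      have hy : Ideal.span {Ideal.Quotient.mk P₀ a} ≤ y.1.asIdeal := y.2
      change P₀ ⊔ Ideal.span {a} ≤ (y.1.asIdeal).comap (Ideal.Quotient.mk P₀)
      refine sup_le ?_ ?_
      · intro x hx
        rw [Ideal.mem_comap, Ideal.Quotient.eq_zero_iff_mem.mpr hx]
        exact zero_mem _
      · rw [Ideal.span_singleton_le_iff_mem, Ideal.mem_comap]
        exact hy (Ideal.mem_span_singleton_self _)⟩
  have hf : StrictMono f := by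
    intro y y' hyy'
    have h1 : y.1.asIdeal < y'.1.asIdeal := (PrimeSpectrum.asIdeal_lt_asIdeal _ _).mpr hyy'
    change (PrimeSpectrum.comap (Ideal.Quotient.mk P₀) y.1) <
      (PrimeSpectrum.comap (Ideal.Quotient.mk P₀) y'.1)
    rw [← PrimeSpectrum.asIdeal_lt_asIdeal]
    change (y.1.asIdeal).comap (Ideal.Quotient.mk P₀) < (y'.1.asIdeal).comap (Ideal.Quotient.mk P₀)
    refine lt_of_le_of_ne (Ideal.comap_mono h1.le) ?_
    intro heq
    exact h1.ne (Ideal.comap_injective_of_surjective _ Ideal.Quotient.mk_surjective heq)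
  have h2 := height_le_height_apply_of_strictMono f hf (pt _ _ hle)
  have h3 : f (pt _ _ hle) = pt (P₀ ⊔ Ideal.span {a}) P
      (sup_le h0P ((Ideal.span_singleton_le_iff_mem P).mpr ha)) := by
    apply Subtype.ext
    apply PrimeSpectrum.ext
    change (P.map (Ideal.Quotient.mk P₀)).comap (Ideal.Quotient.mk P₀) = P
    rw [Ideal.comap_map_of_surjective _ Ideal.Quotient.mk_surjective, ← RingHom.ker_eq_comap_bot,
      Ideal.mk_ker]
    exact sup_eq_left.mpr h0P
  rw [h3] at h2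
  exact h2

end Groth.Agent.H98.GrHt
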